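import Groth.Agent.Lib.MidExact25.Main
import Groth.Agent.Lib.RedSep.Basic
import Mathlib.AlgebraicGeometry.IdealSheaf.Functorial

/-!
# Vanishing ideals under étale maps and on affine schemes
-/

set_option autoImplicit false
set_option linter.style.haveILetI false
set_option backward.isDefEq.respectTransparency.types false

universe u

open CategoryTheory CategoryTheory.Limits AlgebraicGeometry TopologicalSpace

noncomputable section

namespace Groth.Agent.NodeBlow14

/-- An ideal sheaf with reduced subscheme is the vanishing ideal of its support. -/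
theorem eq_vanishingIdeal_of_isReduced {X : Scheme.{u}} (K : X.IdealSheafData) [IsReduced K.subscheme] :
    K = Scheme.IdealSheafData.vanishingIdeal K.support := by
  rw [Scheme.IdealSheafData.vanishingIdeal_support]
  refine le_antisymm (Scheme.IdealSheafData.le_radical _) fun U => ?_
  rw [Scheme.IdealSheafData.radical_ideal]
  rintro x ⟨m, hm⟩
  rw [← Scheme.IdealSheafData.ker_subschemeι K, Scheme.Hom.ker_apply, RingHom.mem_ker] at hm ⊢
  rw [map_pow] at hm
  exact IsReduced.eq_zero _ ⟨m, hm⟩

/-- Vanishing ideals pull back along étale morphisms to vanishing ideals. -/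
theorem comap_vanishingIdeal {U X : Scheme.{u}} (g : U ⟶ X) [Etale g] (Z : Closeds X) :
    (Scheme.IdealSheafData.vanishingIdeal Z).comap g =
      Scheme.IdealSheafData.vanishingIdeal ⟨g ⁻¹' (Z : Set X), Z.2.preimage g.continuous⟩ := by
  let I := Scheme.IdealSheafData.vanishingIdeal Z
  haveI : IsReduced I.subscheme := RedSepLib.isReduced_vanishingIdeal_subscheme Z
  haveI : Etale (pullback.snd g I.subschemeι) := MorphismProperty.pullback_snd _ _ inferInstance
  haveI : IsReduced (I.comap g).subscheme :=
    MidExact25.isReduced_of_etale ((I.comapIso g).hom ≫ pullback.snd g I.subschemeι)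
  refine (eq_vanishingIdeal_of_isReduced (I.comap g)).trans (congrArg _ (Closeds.ext ?_))
  rw [Scheme.IdealSheafData.support_comap, Closeds.coe_preimage, Scheme.IdealSheafData.coe_support_vanishingIdeal]
  rfl

/-- The vanishing ideal of a closed point of an affine scheme. -/
theorem vanishingIdeal_singleton {A : Type u} [CommRing A] (z : Spec (CommRingCat.of A))
    (hz : IsClosed ({z} : Set (Spec (CommRingCat.of A)))) :
    Scheme.IdealSheafData.vanishingIdeal ⟨{z}, hz⟩ =
      Scheme.IdealSheafData.ofIdealTop (z.asIdeal.map (Scheme.ΓSpecIso (CommRingCat.of A)).inv.hom) := by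
  let J := Scheme.IdealSheafData.ofIdealTop (z.asIdeal.map (Scheme.ΓSpecIso (CommRingCat.of A)).inv.hom)
  have hsupp : (J.support : Set (Spec (CommRingCat.of A))) = {z} := by
    rw [Scheme.IdealSheafData.coe_support_ofIdealTop, Spec_zeroLocus, ← Ideal.coe_comap,
      Ideal.comap_map_of_bijective _ (ConcreteCategory.bijective_of_isIso _)]
    haveI : z.asIdeal.IsMaximal := (PrimeSpectrum.isClosed_singleton_iff_isMaximal z).1 hz
    ext w
    refine ⟨fun h => ((PrimeSpectrum.ext (Ideal.IsMaximal.eq_of_le inferInstance w.2.ne_top h)).symm : w = z), fun h => ?_⟩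
    obtain rfl : w = z := h
    exact (fun _ hx => hx)
  have hJ : J = J.radical := by
    refine Scheme.IdealSheafData.ext_of_isAffine ?_
    rw [Scheme.IdealSheafData.radical_ideal]
    have he : J.ideal ⟨⊤, isAffineOpen_top _⟩ = z.asIdeal.map (Scheme.ΓSpecIso (CommRingCat.of A)).inv.hom := by
      simp [J]
    rw [he]
    refine (Ideal.IsPrime.radical ?_).symm
    haveI : z.asIdeal.IsPrime := z.2
    exact Ideal.map_isPrime_of_equiv (Scheme.ΓSpecIso (CommRingCat.of A)).symm.commRingCatIsoToRingEquiv
  show _ = J
  rw [hJ, ← Scheme.IdealSheafData.vanishingIdeal_support]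
  exact congrArg _ (Closeds.ext hsupp.symm)

end Groth.Agent.NodeBlow14
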