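import Groth.Agent.Lib.NodeBlow14.Model
import Groth.Agent.Lib.BlowUpExist.Chart

/-!
# The charts of the blow-up of the node model at its singular point
-/

set_option autoImplicit false
set_option linter.style.haveILetI false
set_option backward.isDefEq.respectTransparency.types false

universe u

open IsLocalRing
open Groth.Agent.NodalEtale14 (Node)

noncomputable section

namespace Groth.Agent.NodeBlow14

/-- A presentation of a chart. -/
theorem bijective_of_presentation {A E : Type u} [CommRing A] [CommRing E] (I : Ideal A) (g : A) (hg : g ∈ I)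
    (φ : A →+* E) (hnzd : φ g ∈ nonZeroDivisors E) (hI : I.map φ ≤ Ideal.span {φ g})
    (ρ : E →+* BlowUp.affineAlgebra A I g) (hρ : ρ.comp φ = algebraMap A (BlowUp.affineAlgebra A I g))
    (hid : ∀ ψ : BlowUp.affineAlgebra A I g →+* E, ψ.comp (algebraMap A _) = φ → ψ.comp ρ = RingHom.id E) :
    Function.Bijective ρ := by
  obtain ⟨ψ, hψ, -⟩ := BlowUpExist.existsUnique_lift I g φ hnzd hI
  have h2 : ρ.comp ψ = RingHom.id _ := by
    obtain ⟨θ, -, huniq⟩ := BlowUpExist.existsUnique_lift I g (algebraMap A (BlowUp.affineAlgebra A I g))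
      (BlowUpExist.algebraMap_mem_nonZeroDivisors I g) (BlowUpExist.map_eq_span I g hg).le
    exact (huniq _ (by show (ρ.comp ψ).comp (algebraMap A _) = _; rw [RingHom.comp_assoc, hψ, hρ])).trans
      (huniq _ (RingHom.id_comp _)).symm
  exact Function.bijective_iff_has_inverse.2 ⟨ψ, RingHom.congr_fun (hid ψ hψ), RingHom.congr_fun h2⟩

theorem algebraMap_away_mem_nonZeroDivisors {D : Type u} [CommRing D] (z d : D) (hd : d ∈ nonZeroDivisors D) :
    algebraMap D (Localization.Away z) d ∈ nonZeroDivisors (Localization.Away z) := by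
  rw [mem_nonZeroDivisors_iff_right]
  intro w hw
  obtain ⟨x, y, rfl⟩ := IsLocalization.exists_mk'_eq (Submonoid.powers z) w
  rw [mul_comm, IsLocalization.mul_mk'_eq_mk'_of_mul, IsLocalization.mk'_eq_zero_iff] at hw
  obtain ⟨m, hm⟩ := hw
  refine (IsLocalization.mk'_eq_zero_iff _ _).2 ⟨m, mem_nonZeroDivisors_iff_right.1 hd _ ?_⟩
  linear_combination hm

/-- Overlaps of two rings with the universal property of charts. -/
theorem exists_away_hom' {A D₁ D₂ : Type u} [CommRing A] [CommRing D₁] [CommRing D₂] (I : Ideal A) {a c : A}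
    (j₁ : A →+* D₁) (j₂ : A →+* D₂)
    (u₁ : ∀ (T : Type u) [CommRing T] (φ : A →+* T), φ a ∈ nonZeroDivisors T → I.map φ ≤ Ideal.span {φ a} →
      ∃! ψ : D₁ →+* T, ψ.comp j₁ = φ)
    (u₂ : ∀ (T : Type u) [CommRing T] (φ : A →+* T), φ c ∈ nonZeroDivisors T → I.map φ ≤ Ideal.span {φ c} →
      ∃! ψ : D₂ →+* T, ψ.comp j₂ = φ)
    (n₁ : j₁ a ∈ nonZeroDivisors D₁) (n₂ : j₂ c ∈ nonZeroDivisors D₂)
    (s₁ : I.map j₁ ≤ Ideal.span {j₁ a}) (s₂ : I.map j₂ ≤ Ideal.span {j₂ c})
    {t : D₁} {s : D₂} (ht : t * j₁ a = j₁ c) (hs : s * j₂ c = j₂ a) :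
    ∃ κ : D₂ →+* Localization.Away t, κ.Etale ∧ κ.comp j₂ = (algebraMap D₁ (Localization.Away t)).comp j₁ := by
  let Ta := Localization.Away t
  let Tc := Localization.Away s
  let fa : A →+* Ta := (algebraMap D₁ Ta).comp j₁
  let fc : A →+* Tc := (algebraMap D₂ Tc).comp j₂
  have ua : IsUnit (algebraMap D₁ Ta t) := IsLocalization.Away.algebraMap_isUnit t
  have uc : IsUnit (algebraMap D₂ Tc s) := IsLocalization.Away.algebraMap_isUnit s
  have ea : fa c = algebraMap D₁ Ta t * fa a := (congrArg (algebraMap D₁ Ta) ht).symm.trans (map_mul _ _ _)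
  have ec : fc a = algebraMap D₂ Tc s * fc c := (congrArg (algebraMap D₂ Tc) hs).symm.trans (map_mul _ _ _)
  have na : fa a ∈ nonZeroDivisors Ta := algebraMap_away_mem_nonZeroDivisors t _ n₁
  have nc : fc c ∈ nonZeroDivisors Tc := algebraMap_away_mem_nonZeroDivisors s _ n₂
  have Ia : I.map fa ≤ Ideal.span {fa a} := by
    rw [← Ideal.map_map]
    refine (Ideal.map_mono s₁).trans (le_of_eq ?_)
    rw [Ideal.map_span, Set.image_singleton]; rfl
  have Ic : I.map fc ≤ Ideal.span {fc c} := by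
    rw [← Ideal.map_map]
    refine (Ideal.map_mono s₂).trans (le_of_eq ?_)
    rw [Ideal.map_span, Set.image_singleton]; rfl
  have nca : fa c ∈ nonZeroDivisors Ta := by rw [ea]; exact mul_mem ua.mem_nonZeroDivisors na
  have nac : fc a ∈ nonZeroDivisors Tc := by rw [ec]; exact mul_mem uc.mem_nonZeroDivisors nc
  obtain ⟨L0, hL0, -⟩ := u₂ Ta fa nca (by rw [ea, Ideal.span_singleton_mul_left_unit ua]; exact Ia)
  obtain ⟨M0, hM0, -⟩ := u₁ Tc fc nac (by rw [ec, Ideal.span_singleton_mul_left_unit uc]; exact Ic)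
  have eL : ∀ x, L0 (j₂ x) = fa x := RingHom.congr_fun hL0
  have eM : ∀ x, M0 (j₁ x) = fc x := RingHom.congr_fun hM0
  have hts : algebraMap D₁ Ta t * L0 s = 1 := by
    have h := congrArg L0 hs
    rw [map_mul, eL, eL, ea] at h
    refine sub_eq_zero.1 (mem_nonZeroDivisors_iff_right.1 na _ ?_)
    linear_combination h
  have hst : algebraMap D₂ Tc s * M0 t = 1 := by
    have h := congrArg M0 ht
    rw [map_mul, eM, eM, ec] at h
    refine sub_eq_zero.1 (mem_nonZeroDivisors_iff_right.1 nc _ ?_)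
    linear_combination h
  let L : Tc →+* Ta := IsLocalization.Away.lift s (g := L0) (IsUnit.of_mul_eq_one_right _ hts)
  let M : Ta →+* Tc := IsLocalization.Away.lift t (g := M0) (IsUnit.of_mul_eq_one_right _ hst)
  have eL' : ∀ z, L (algebraMap D₂ Tc z) = L0 z := fun z => IsLocalization.Away.lift_eq s _ z
  have eM' : ∀ z, M (algebraMap D₁ Ta z) = M0 z := fun z => IsLocalization.Away.lift_eq t _ z
  have h1 : M.comp L = RingHom.id Tc := by
    refine IsLocalization.ringHom_ext (Submonoid.powers s) ?_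
    obtain ⟨θ, -, huniq⟩ := u₂ Tc fc nc Ic
    refine (huniq _ (RingHom.ext fun x => ?_)).trans (huniq _ (RingHom.ext fun x => rfl)).symm
    show M (L (algebraMap D₂ Tc (j₂ x))) = fc x
    rw [eL', eL]
    show M (algebraMap D₁ Ta (j₁ x)) = _
    rw [eM', eM]
  have h2 : L.comp M = RingHom.id Ta := by
    refine IsLocalization.ringHom_ext (Submonoid.powers t) ?_
    obtain ⟨θ, -, huniq⟩ := u₁ Ta fa na Ia
    refine (huniq _ (RingHom.ext fun x => ?_)).trans (huniq _ (RingHom.ext fun x => rfl)).symm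
    show L (M (algebraMap D₁ Ta (j₁ x))) = fa x
    rw [eM', eM]
    show L (algebraMap D₂ Tc (j₂ x)) = _
    rw [eL', eL]
  refine ⟨L0, ?_, hL0⟩
  rw [show L0 = L.comp (algebraMap D₂ Tc) from (RingHom.ext eL').symm]
  exact RingHom.Etale.stableUnderComposition _ _
    (RingHom.etale_algebraMap.2 (Algebra.Etale.of_isLocalizationAway s))
    (RingHom.Etale.of_bijective (Function.bijective_iff_has_inverse.2 ⟨M, RingHom.congr_fun h1, RingHom.congr_fun h2⟩))

/-- Overlaps of two charts. -/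
theorem exists_away_hom {A : Type u} [CommRing A] (I : Ideal A) {a c : A} (ha : a ∈ I) (hc : c ∈ I)
    (t : BlowUp.affineAlgebra A I a) (ht : t * algebraMap A _ a = algebraMap A _ c) :
    ∃ κ : BlowUp.affineAlgebra A I c →+* Localization.Away t, κ.Etale ∧
      κ.comp (algebraMap A (BlowUp.affineAlgebra A I c)) =
        (algebraMap (BlowUp.affineAlgebra A I a) (Localization.Away t)).comp (algebraMap A (BlowUp.affineAlgebra A I a)) := by
  obtain ⟨s, hs⟩ := Ideal.mem_span_singleton'.1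
    ((BlowUpExist.map_eq_span I c hc).le (Ideal.mem_map_of_mem (algebraMap A (BlowUp.affineAlgebra A I c)) ha))
  exact exists_away_hom' I _ _ (fun T _ φ => BlowUpExist.existsUnique_lift I a φ)
    (fun T _ φ => BlowUpExist.existsUnique_lift I c φ)
    (BlowUpExist.algebraMap_mem_nonZeroDivisors I a) (BlowUpExist.algebraMap_mem_nonZeroDivisors I c)
    (BlowUpExist.map_eq_span I a ha).le (BlowUpExist.map_eq_span I c hc).le ht hs

section Charts

variable {R : Type u} [CommRing R] [IsDomain R] [IsDiscreteValuationRing R] {ϖ : R} (hϖ : Irreducible ϖ)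
  {h : R} (h₂ : R) (hh : h = ϖ ^ 2 * h₂) (I : Ideal (Node R h)) (hI : I = Ideal.span {cst h ϖ, crd h 0, crd h 1})

include hI in
omit [IsDomain R] [IsDiscreteValuationRing R] in
theorem map_le_span {E : Type u} [CommRing E] (φ : Node R h →+* E) (y : E)
    (h1 : ∀ k, φ (crd h k) ∈ Ideal.span {y}) (h2 : φ (cst h ϖ) ∈ Ideal.span {y}) : I.map φ ≤ Ideal.span {y} := by
  rw [hI, Ideal.map_span, Ideal.span_le]
  rintro _ ⟨x, hx, rfl⟩
  rcases hx with rfl | rfl | rfl
  exacts [h2, h1 0, h1 1]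

include hI in
omit [IsDomain R] [IsDiscreteValuationRing R] in
theorem cst_mem : cst h ϖ ∈ I := hI ▸ Ideal.subset_span (by simp)

include hI in
omit [IsDomain R] [IsDiscreteValuationRing R] in
theorem crd_mem (k : Fin 2) : crd h k ∈ I := hI ▸ Ideal.subset_span (by fin_cases k <;> simp)

set_option maxHeartbeats 2000000 in
include hϖ hh hI in
/-- The chart of the uniformizer, with its coordinates. -/
theorem exists_chart_cst_coord : ∃ ρ : Node R h₂ →+* BlowUp.affineAlgebra (Node R h) I (cst h ϖ),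
    Function.Bijective ρ ∧ (∀ r, ρ (cst h₂ r) = algebraMap (Node R h) _ (cst h r)) ∧
      ∀ k, ρ (crd h₂ k) * algebraMap (Node R h) _ (cst h ϖ) = algebraMap (Node R h) _ (crd h k) := by
  let N := Node R h
  let g := cst h ϖ
  have hmem := crd_mem I hI
  have hmemϖ := cst_mem I hI
  let D := BlowUp.affineAlgebra N I (cst h ϖ)
  have hng : algebraMap N D (cst h ϖ) ∈ nonZeroDivisors D := BlowUpExist.algebraMap_mem_nonZeroDivisors I _
  have hdiv : ∀ x ∈ I, ∃ z : D, z * algebraMap N D (cst h ϖ) = algebraMap N D x := fun x hx =>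
    Ideal.mem_span_singleton'.1 ((BlowUpExist.map_eq_span I _ hmemϖ).le (Ideal.mem_map_of_mem _ hx))
  obtain ⟨z0, hz0⟩ := hdiv _ (hmem 0)
  obtain ⟨z1, hz1⟩ := hdiv _ (hmem 1)
  have hrel : ![z0, z1] 0 * ![z0, z1] 1 = algebraMap N D (cst h h₂) := by
    refine sub_eq_zero.1 (mem_nonZeroDivisors_iff_right.1 (mul_mem hng hng) _ ?_)
    have := congrArg (algebraMap N D) (crd_mul h)
    simp only [map_mul, hh, map_pow, ← hz0, ← hz1] at this
    simp only [Matrix.cons_val_zero, Matrix.cons_val_one]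
    linear_combination this
  obtain ⟨ρ, hρc, hρk⟩ := exists_hom h₂ ((algebraMap N D).comp (cst h)) ![z0, z1] hrel
  obtain ⟨φ, hφc, hφk⟩ := exists_hom h (cst h₂)
    (fun k => cst h₂ ϖ * crd h₂ k) (by
      show cst h₂ ϖ * crd h₂ 0 * (cst h₂ ϖ * crd h₂ 1) = cst h₂ h
      rw [hh, map_mul (cst h₂), map_pow]
      linear_combination (cst h₂ ϖ) ^ 2 * crd_mul h₂)
  have hρφ : ρ.comp φ = algebraMap N D := node_ringHom_ext (fun r => by
    show ρ (φ (cst h r)) = _; rw [hφc, hρc]; rfl) fun k => by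
    show ρ (φ (crd h k)) = _
    rw [hφk, map_mul, hρc, hρk]
    fin_cases k
    · show algebraMap N D (cst h ϖ) * z0 = algebraMap N D (crd h 0); exact (mul_comm _ _).trans hz0
    · show algebraMap N D (cst h ϖ) * z1 = algebraMap N D (crd h 1); exact (mul_comm _ _).trans hz1
  refine ⟨ρ, bijective_of_presentation I _ hmemϖ φ ?_ ?_ ρ hρφ fun ψ hψ => ?_, fun r => hρc r, fun k => ?_⟩
  · rw [hφc]; exact cst_mem_nonZeroDivisors h₂ hϖ.prime
  · rw [hφc]
    refine map_le_span I hI φ _ (fun k => ?_) ?_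
    · rw [hφk]; exact Ideal.mul_mem_right _ _ (Ideal.mem_span_singleton_self _)
    · rw [hφc]; exact Ideal.mem_span_singleton_self _
  · have e : ∀ x, ψ (algebraMap N D x) = φ x := RingHom.congr_fun hψ
    refine node_ringHom_ext (fun r => by
      show ψ (ρ (cst h₂ r)) = cst h₂ r
      rw [hρc]
      exact (e _).trans (hφc r)) fun k => ?_
    show ψ (ρ (crd h₂ k)) = crd h₂ k
    rw [hρk]
    refine sub_eq_zero.1 (mem_nonZeroDivisors_iff_right.1 (cst_mem_nonZeroDivisors h₂ hϖ.prime) _ ?_)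
    have hh0 := congrArg ψ hz0
    have hh1 := congrArg ψ hz1
    rw [map_mul, e, e, hφc, hφk] at hh0 hh1
    fin_cases k
    · show (ψ z0 - crd h₂ 0) * cst h₂ ϖ = 0; linear_combination hh0
    · show (ψ z1 - crd h₂ 1) * cst h₂ ϖ = 0; linear_combination hh1
  · rw [hρk]
    fin_cases k
    · exact hz0
    · exact hz1

include hϖ hh hI in
/-- The chart of the uniformizer. -/
theorem exists_chart_cst : ∃ (c : R) (ρ : Node R c →+* BlowUp.affineAlgebra (Node R h) I (cst h ϖ)),
    Function.Bijective ρ ∧ ∀ r, ρ (cst c r) = algebraMap (Node R h) _ (cst h r) :=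
  let ⟨ρ, h₁, h₂', _⟩ := exists_chart_cst_coord hϖ h₂ hh I hI
  ⟨h₂, ρ, h₁, h₂'⟩

set_option maxHeartbeats 2000000 in
include hϖ hh hI in
/-- The chart of a coordinate, with its parameter. -/
theorem exists_chart_crd_coord (k : Fin 2) : ∃ ρ : Node R ϖ →+* BlowUp.affineAlgebra (Node R h) I (crd h k),
    Function.Bijective ρ ∧ ∀ r, ρ (cst ϖ r) = algebraMap (Node R h) _ (cst h r) := by
  let N := Node R h
  have hmem := crd_mem I hI
  have hmemϖ := cst_mem I hI
  let D := BlowUp.affineAlgebra N I (crd h k)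
  have hng : algebraMap N D (crd h k) ∈ nonZeroDivisors D := BlowUpExist.algebraMap_mem_nonZeroDivisors I _
  have hdiv : ∀ x ∈ I, ∃ z : D, z * algebraMap N D (crd h k) = algebraMap N D x := fun x hx =>
    Ideal.mem_span_singleton'.1 ((BlowUpExist.map_eq_span I _ (hmem k)).le (Ideal.mem_map_of_mem _ hx))
  obtain ⟨z, hz⟩ := hdiv _ hmemϖ
  obtain ⟨ρ, hρc, hρk⟩ := exists_hom ϖ ((algebraMap N D).comp (cst h)) ![algebraMap N D (crd h k), z] (by
    simp only [Matrix.cons_val_zero, Matrix.cons_val_one]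
    exact (mul_comm _ _).trans hz)
  obtain ⟨φ, hφc, hφk⟩ := exists_hom h (cst ϖ)
    (fun j => if j = k then crd ϖ 0 else crd ϖ 0 * crd ϖ 1 ^ 2 * cst ϖ h₂) (by
      have e : crd ϖ 0 * (crd ϖ 0 * crd ϖ 1 ^ 2 * cst ϖ h₂) = cst ϖ h := by
        rw [hh, map_mul (cst ϖ), map_pow]
        linear_combination (crd ϖ 0 * crd ϖ 1 + cst ϖ ϖ) * cst ϖ h₂ * crd_mul ϖ
      fin_cases k
      · simp only [Fin.zero_eta, if_true, one_ne_zero, if_false]; exact e
      · simp only [Fin.mk_one, if_true, zero_ne_one, if_false]; rw [mul_comm]; exact e)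
  have hφg : φ (crd h k) = crd ϖ 0 := by rw [hφk, if_pos rfl]
  have hρφ : ρ.comp φ = algebraMap N D := node_ringHom_ext (fun r => by
    show ρ (φ (cst h r)) = _; rw [hφc, hρc]; rfl) fun j => by
    show ρ (φ (crd h j)) = _
    rw [hφk]
    by_cases hj : j = k
    · rw [if_pos hj, hρk, hj]; rfl
    · rw [if_neg hj, map_mul, map_mul, map_pow, hρc, hρk, hρk]
      show algebraMap N D (crd h k) * z ^ 2 * algebraMap N D (cst h h₂) = algebraMap N D (crd h j)
      refine sub_eq_zero.1 (mem_nonZeroDivisors_iff_right.1 hng _ ?_)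
      have := congrArg (algebraMap N D) (crd_mul_other h hj)
      simp only [map_mul, hh, map_pow, ← hz] at this
      linear_combination -this
  refine ⟨ρ, bijective_of_presentation I _ (hmem k) φ ?_ ?_ ρ hρφ fun ψ hψ => ?_, fun r => hρc r⟩
  · rw [hφg]; exact crd_mem_nonZeroDivisors ϖ hϖ.ne_zero
  · rw [hφg]
    refine map_le_span I hI φ _ (fun j => ?_) ?_
    · rw [hφk]
      split
      · exact Ideal.mem_span_singleton_self _
      · rw [mul_assoc]; exact Ideal.mul_mem_right _ _ (Ideal.mem_span_singleton_self _)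
    · rw [hφc, ← crd_mul ϖ]; exact Ideal.mul_mem_right _ _ (Ideal.mem_span_singleton_self _)
  · have e : ∀ x, ψ (algebraMap N D x) = φ x := RingHom.congr_fun hψ
    refine node_ringHom_ext (fun r => by
      show ψ (ρ (cst ϖ r)) = cst ϖ r
      rw [hρc]
      exact (e _).trans (hφc r)) fun j => ?_
    show ψ (ρ (crd ϖ j)) = crd ϖ j
    rw [hρk]
    fin_cases j
    · show ψ (algebraMap N D (crd h k)) = crd ϖ 0
      rw [e, hφg]
    · show ψ z = crd ϖ 1
      refine sub_eq_zero.1 (mem_nonZeroDivisors_iff_right.1 (crd_mem_nonZeroDivisors ϖ hϖ.ne_zero) _ ?_)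
      have hh0 := congrArg ψ hz
      rw [map_mul, e, e, hφc, hφg] at hh0
      linear_combination hh0 - crd_mul ϖ

include hϖ hh hI in
/-- The chart of a coordinate. -/
theorem exists_chart_crd (k : Fin 2) : ∃ (c : R) (ρ : Node R c →+* BlowUp.affineAlgebra (Node R h) I (crd h k)),
    Function.Bijective ρ ∧ ∀ r, ρ (cst c r) = algebraMap (Node R h) _ (cst h r) :=
  ⟨ϖ, exists_chart_crd_coord hϖ h₂ hh I hI k⟩

set_option maxHeartbeats 1000000 in
include hϖ hh hI in
/-- The blow-up of `uv = ϖ² h₂` at the origin is covered by node models. -/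
theorem exists_nodeChart {a : Node R h} (ha : a ∈ I) (q : Ideal (BlowUp.affineAlgebra (Node R h) I a)) [q.IsPrime] :
    ∃ t ∉ q, ∃ (c : R) (ψ : Node R c →+* Localization.Away t), ψ.Etale ∧
      ∀ r, ψ (cst c r) =
        algebraMap (BlowUp.affineAlgebra (Node R h) I a) (Localization.Away t)
          (algebraMap (Node R h) (BlowUp.affineAlgebra (Node R h) I a) (cst h r)) := by
  let N := Node R h
  have hchart : ∀ g ∈ ({cst h ϖ, crd h 0, crd h 1} : Set N), ∃ (c : R)
      (ρ : Node R c →+* BlowUp.affineAlgebra N I g), Function.Bijective ρ ∧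
        ∀ r, ρ (cst c r) = algebraMap N (BlowUp.affineAlgebra N I g) (cst h r) := by
    rintro g (rfl | rfl | rfl)
    exacts [exists_chart_cst hϖ h₂ hh I hI, exists_chart_crd hϖ h₂ hh I hI 0, exists_chart_crd hϖ h₂ hh I hI 1]
  -- covering
  obtain ⟨g, hg, t, ht, htq⟩ : ∃ g ∈ ({cst h ϖ, crd h 0, crd h 1} : Set N), ∃ t : BlowUp.affineAlgebra N I a,
      t * algebraMap N _ a = algebraMap N _ g ∧ t ∉ q := by
    let D := BlowUp.affineAlgebra N I a
    by_contra hne
    push Not at hne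
    have hsub : ({cst h ϖ, crd h 0, crd h 1} : Set N) ⊆
        ((q * Ideal.span {algebraMap N D a}).comap (algebraMap N D) : Set N) := fun g hg => by
      obtain ⟨t, ht⟩ := Ideal.mem_span_singleton'.1
        ((BlowUpExist.map_eq_span I a ha).le (Ideal.mem_map_of_mem _ (hI ▸ Ideal.subset_span hg)))
      show algebraMap N D g ∈ q * Ideal.span {algebraMap N D a}
      rw [← ht]
      exact Ideal.mul_mem_mul (hne g hg t ht) (Ideal.mem_span_singleton_self _)
    obtain ⟨y, hy, hya⟩ := Ideal.mem_mul_span_singleton.1 ((Ideal.span_le.2 hsub) (hI ▸ ha))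
    refine (Ideal.IsPrime.ne_top (I := q) inferInstance) ((Ideal.eq_top_iff_one q).2 ?_)
    have : y = 1 := sub_eq_zero.1 (mem_nonZeroDivisors_iff_right.1 (BlowUpExist.algebraMap_mem_nonZeroDivisors I a)
      (y - 1) (by rw [sub_mul, one_mul, hya, sub_self]))
    rwa [this] at hy
  obtain ⟨c, ρ, hρ, hρc⟩ := hchart g hg
  obtain ⟨κ, hκ, hκA⟩ := exists_away_hom I ha (hI ▸ Ideal.subset_span hg) t ht
  refine ⟨t, htq, c, κ.comp ρ, RingHom.Etale.stableUnderComposition _ _ (RingHom.Etale.of_bijective hρ) hκ, fun r => ?_⟩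
  show κ (ρ (cst c r)) = _
  rw [hρc]
  exact RingHom.congr_fun hκA (cst h r)

end Charts

end Groth.Agent.NodeBlow14
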