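import Groth.Agent.Lib.NodeBlow14.Node
import Groth.Agent.Lib.NodeBlow14.Centre
import Groth.Agent.Lib.BlowUpExist.Proper
import Groth.Agent.Lib.BlowUpReg6.Main
import Groth.Agent.Lib.Weight4.Mult
import Groth.Agent.Lib.RegLoc.Unramified
import Groth.Agent.Lib.HensFib6.EtaleDesc
import Groth.Agent.S1680
import Groth.Agent.S1682
import Groth.Agent.S2227
import Mathlib.AlgebraicGeometry.Morphisms.QuasiFinite

/-!
# Blowing up a nodal family over a discrete valuation ring at a nonregular point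
-/

set_option autoImplicit false
set_option linter.style.haveILetI false
set_option backward.isDefEq.respectTransparency.types false

universe u

open CategoryTheory CategoryTheory.Limits AlgebraicGeometry TopologicalSpace
open Groth.Agent.NodalEtale14 (Node)

noncomputable section

namespace Groth.Agent.NodeBlow14

/-- Regularity along étale maps. -/
theorem isRegular_iff_etale {E S : Scheme.{u}} [IsLocallyNoetherian S] (g : E ⟶ S) [Etale g] (e : E) :
    IsRegularLocalRing (S.presheaf.stalk (g e)) ↔ IsRegularLocalRing (E.presheaf.stalk e) := by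
  haveI : IsLocallyNoetherian E := LocallyOfFiniteType.isLocallyNoetherian g
  let _ := (g.stalkMap e).hom.toAlgebra
  haveI : Module.Flat (S.presheaf.stalk (g e)) (E.presheaf.stalk e) := Flat.stalkMap g e
  haveI : IsLocalHom (algebraMap (S.presheaf.stalk (g e)) (E.presheaf.stalk e)) :=
    inferInstanceAs (IsLocalHom (g.stalkMap e).hom)
  exact RegLoc.isRegularLocalRing_iff_of_map_maximalIdeal (R := S.presheaf.stalk (g e))
    (Weight.map_maximalIdeal_stalkMap g e)

/-- At a nonregular point of the special fibre the parameter is divisible by `ϖ²` and the point is the origin. -/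
theorem nonregular_node {R : Type u} [CommRing R] [IsDomain R] [IsDiscreteValuationRing R] {ϖ : R}
    (hϖ : Irreducible ϖ) {c : R} (hc : c = 0 ∨ ∃ n : ℕ, c = ϖ ^ n) (P : Ideal (Node R c)) [P.IsPrime]
    (hP : P.comap (cst c) = IsLocalRing.maximalIdeal R)
    (hreg : ¬ IsRegularLocalRing (Localization.AtPrime P)) :
    (∃ c₂, c = ϖ ^ 2 * c₂) ∧ P = Ideal.span {cst c ϖ, crd c 0, crd c 1} ∧ P.IsMaximal := by
  have hk : ∀ k, crd c k ∈ P := fun k => by
    by_contra h
    exact hreg (isRegularLocalRing_node c P hP (Or.inl ⟨k, h⟩))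
  have hϖP : cst c ϖ ∈ P := by
    rw [← Ideal.mem_comap, hP, hϖ.maximalIdeal_eq]; exact Ideal.mem_span_singleton_self ϖ
  let J : Ideal (Node R c) := Ideal.span {cst c ϖ, crd c 0, crd c 1}
  have hPJ : J ≤ P := Ideal.span_le.2 (by rintro _ (rfl | rfl | rfl); exacts [hϖP, hk 0, hk 1])
  have hPeq : ∀ w : Node R c, ∃ r : R, w - cst c r ∈ J := fun w => by
    obtain ⟨p, rfl⟩ := Ideal.Quotient.mk_surjective w
    induction p using MvPolynomial.induction_on with
    | C r => exact ⟨r, by simp⟩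
    | add a b ha hb =>
      obtain ⟨r, hr⟩ := ha
      obtain ⟨s, hs⟩ := hb
      refine ⟨r + s, ?_⟩
      rw [map_add, map_add (cst c)]
      convert add_mem hr hs using 1
      ring
    | mul_X a k _ =>
      refine ⟨0, ?_⟩
      rw [map_zero (cst c), sub_zero, map_mul]
      refine Ideal.mul_mem_left _ _ (Ideal.subset_span ?_)
      fin_cases k
      · exact Or.inr (Or.inl rfl)
      · exact Or.inr (Or.inr rfl)
  have hJ : ∀ w r, w - cst c r ∈ J → r ∈ IsLocalRing.maximalIdeal R → w ∈ J := fun w r hr hr' => by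
    rw [hϖ.maximalIdeal_eq, Ideal.mem_span_singleton'] at hr'
    obtain ⟨s, rfl⟩ := hr'
    have := add_mem hr (Ideal.mul_mem_left _ (cst c s) (Ideal.subset_span (Or.inl rfl) : cst c ϖ ∈ J))
    rwa [← map_mul, sub_add_cancel] at this
  refine ⟨?_, le_antisymm (fun z hz => ?_) hPJ, ?_⟩
  · rcases hc with rfl | ⟨n, rfl⟩
    · exact ⟨0, by simp⟩
    · have h0 : ϖ ^ n ∈ IsLocalRing.maximalIdeal R := by
        rw [← hP, Ideal.mem_comap, ← crd_mul (ϖ ^ n)]
        exact Ideal.mul_mem_right _ _ (hk 0)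
      rcases n with _ | _ | m
      · exact absurd ((Ideal.eq_top_iff_one _).2 (by simpa using h0)) (IsLocalRing.maximalIdeal.isMaximal R).ne_top
      · exact absurd (isRegularLocalRing_node _ P hP (Or.inr (by simpa using hϖ))) hreg
      · exact ⟨ϖ ^ m, by ring⟩
  · obtain ⟨r, hr⟩ := hPeq z
    refine hJ z r hr ?_
    rw [← hP, Ideal.mem_comap]
    simpa using sub_mem hz (hPJ hr)
  · refine Ideal.isMaximal_def.2 ⟨Ideal.IsPrime.ne_top inferInstance, fun J' hJ' => ?_⟩
    obtain ⟨w, hwJ', hwP⟩ := SetLike.exists_of_lt hJ'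
    obtain ⟨r, hr⟩ := hPeq w
    refine Ideal.eq_top_of_isUnit_mem J' (x := cst c r) ?_ ((IsLocalRing.notMem_maximalIdeal.1 fun hr' => hwP (hPJ (hJ w r hr hr'))).map _)
    simpa using sub_mem hwJ' (hJ'.le (hPJ hr))

/-- Local rings of affine schemes. -/
theorem isRegular_stalk_spec {N : Type u} [CommRing N] (z : Spec (CommRingCat.of N))
    (h : IsRegularLocalRing (Localization.AtPrime z.asIdeal)) :
    IsRegularLocalRing ((Spec (CommRingCat.of N)).presheaf.stalk z) :=
  @IsRegularLocalRing.of_ringEquiv (Localization.AtPrime z.asIdeal) _ h _ _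
    (StructureSheaf.stalkIso N z).toRingEquiv

/-- A subset of a discrete closed set is closed. -/
theorem isClosed_of_isDiscrete {Z : Type*} [TopologicalSpace Z] {F T : Set Z} (hF : IsClosed F) (hd : IsDiscrete F)
    (hT : T ⊆ F) : IsClosed T := by
  haveI := hd.to_subtype
  have := (hF.isClosedEmbedding_subtypeVal).isClosedMap _ (isClosed_discrete (Subtype.val ⁻¹' T : Set F))
  rwa [Subtype.image_preimage_coe, Set.inter_eq_right.2 hT] at this

/-- Two blow-ups along the same centre are isomorphic. -/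
theorem exists_iso_blowUp {U B B' : Scheme.{u}} {C : U.IdealSheafData} {b : B ⟶ U} {b' : B' ⟶ U}
    (h : BlowUp.IsBlowUp b C) (h' : BlowUp.IsBlowUp b' C) : ∃ e : B ≅ B', e.hom ≫ b' = b := by
  obtain ⟨l, hl, -⟩ := h'.2 B b h.1
  obtain ⟨m, hm, -⟩ := h.2 B' b' h'.1
  obtain ⟨k, -, hku⟩ := h.2 B b h.1
  obtain ⟨k', -, hku'⟩ := h'.2 B' b' h'.1
  exact ⟨⟨l, m, (hku _ (show (l ≫ m) ≫ b = b by rw [Category.assoc, hm, hl])).trans (hku _ (Category.id_comp b)).symm,
    (hku' _ (show (m ≫ l) ≫ b' = b' by rw [Category.assoc, hl, hm])).trans (hku' _ (Category.id_comp b')).symm⟩, hl⟩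

/-- The étale neighbourhood of the blown up point. -/
theorem exists_nhd {R : Type u} [CommRing R] [IsDomain R] [IsDiscreteValuationRing R] {X X' : Scheme.{u}}
    (f : X ⟶ Spec (CommRingCat.of R)) (hf : Curv2.IsNodalFamily f) (x : X)
    (hx : f.base x = IsLocalRing.closedPoint R) (hxc : IsClosed ({x} : Set X))
    (hreg : ¬ IsRegularLocalRing (X.presheaf.stalk x))
    (b : X' ⟶ X) (hb : BlowUp.IsBlowUp b (Scheme.IdealSheafData.vanishingIdeal ⟨{x}, hxc⟩)) [LocallyOfFiniteType b] :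
    ∃ (W : Scheme.{u}) (j : W ⟶ X') (_ : Etale j), (∀ y, b y = x → y ∈ Set.range j.base) ∧ Flat (j ≫ b ≫ f) ∧
      ∀ _ : LocallyOfFiniteType (j ≫ b ≫ f), Nodal27.FamGood (j ≫ b ≫ f) := by
  obtain ⟨ϖ, hϖ⟩ := IsDiscreteValuationRing.exists_irreducible R
  obtain ⟨R', _, _, _, _, _, hϖ', hpol, hh, U₀, e₀, he₀, x₀, hx₀, g₀, hg₀, hcomm⟩ := S2227.result R ϖ hϖ X f hf x hx
  obtain ⟨c, rfl, hc⟩ : ∃ c : R', hpol = MvPolynomial.C c ∧ (c = 0 ∨ ∃ n : ℕ, c = algebraMap R R' ϖ ^ n) := by
    rcases hh with rfl | ⟨n, rfl⟩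
    · exact ⟨0, (map_zero _).symm, Or.inl rfl⟩
    · exact ⟨_, rfl, Or.inr ⟨n, rfl⟩⟩
  let g₁ : U₀ ⟶ Spec (CommRingCat.of (Node R' c)) := g₀
  haveI : Etale g₁ := hg₀
  haveI : IsLocallyNoetherian X := by
    haveI : LocallyOfFinitePresentation f := hf.2.1
    exact LocallyOfFiniteType.isLocallyNoetherian f
  let z : Spec (CommRingCat.of (Node R' c)) := g₁ x₀
  let gR : Spec (CommRingCat.of R') ⟶ Spec (CommRingCat.of R) := Spec.map (CommRingCat.ofHom (algebraMap R R'))
  haveI : Etale gR := (HasRingHomProperty.Spec_iff (P := @Etale)).2 (RingHom.etale_algebraMap.2 inferInstance)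
  have hcomm' : g₁ ≫ πN c ≫ gR = e₀ ≫ f := by
    rw [← hcomm]
    show g₀ ≫ _ = g₀ ≫ _
    rw [← Spec.map_comp, ← CommRingCat.ofHom_comp, RingHom.comp_assoc]
  have hPm : z.asIdeal.comap (cst c) = IsLocalRing.maximalIdeal R' := by
    have h : (g₁ ≫ πN c ≫ gR) x₀ = IsLocalRing.closedPoint R := by
      rw [hcomm', Scheme.Hom.comp_apply, hx₀]; exact hx
    have h' : (z.asIdeal.comap (cst c)).comap (algebraMap R R') = IsLocalRing.maximalIdeal R :=
      congrArg PrimeSpectrum.asIdeal h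
    haveI : (z.asIdeal.comap (cst c)).IsPrime := by
      haveI : z.asIdeal.IsPrime := z.2
      exact Ideal.IsPrime.comap _
    refine IsLocalRing.eq_maximalIdeal (IsPrime.to_maximal_ideal (fun e => hϖ'.ne_zero ?_))
    have : ϖ ∈ (z.asIdeal.comap (cst c)).comap (algebraMap R R') := by
      rw [h', hϖ.maximalIdeal_eq]; exact Ideal.mem_span_singleton_self ϖ
    rw [Ideal.mem_comap, e, Ideal.mem_bot] at this
    exact this
  haveI : IsLocallyNoetherian (Spec (CommRingCat.of (Node R' c))) := inferInstance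
  haveI : z.asIdeal.IsPrime := z.2
  have hnr : ¬ IsRegularLocalRing (Localization.AtPrime z.asIdeal) := fun h => hreg (by
    rw [← hx₀, isRegular_iff_etale e₀ x₀, ← isRegular_iff_etale g₁ x₀]
    exact isRegular_stalk_spec z h)
  obtain ⟨⟨c₂, hc₂⟩, hPI, hmax⟩ := nonregular_node hϖ' hc z.asIdeal hPm hnr
  have hzc : IsClosed ({z} : Set (Spec (CommRingCat.of (Node R' c)))) :=
    (PrimeSpectrum.isClosed_singleton_iff_isMaximal z).2 hmax
  -- shrink the neighbourhood
  haveI := HensFib6.locallyQuasiFinite_of_unramified e₀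
  haveI := HensFib6.locallyQuasiFinite_of_unramified g₁
  let T : Set U₀ := ((e₀ ⁻¹' {x}) ∪ (g₁ ⁻¹' {z})) \ {x₀}
  have hT : IsClosed T := by
    have h1 : IsClosed ((e₀ ⁻¹' {x}) \ {x₀}) :=
      isClosed_of_isDiscrete (hxc.preimage e₀.continuous) (e₀.isDiscrete_preimage_singleton x) Set.sdiff_subset
    have h2 : IsClosed ((g₁ ⁻¹' {z}) \ {x₀}) :=
      isClosed_of_isDiscrete (hzc.preimage g₁.continuous) (g₁.isDiscrete_preimage_singleton z) Set.sdiff_subset
    simpa only [T, Set.union_sdiff_distrib] using h1.union h2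
  let U : U₀.Opens := ⟨Tᶜ, hT.isOpen_compl⟩
  let x₁ : U := ⟨x₀, fun h => h.2 rfl⟩
  let e : U.toScheme ⟶ X := U.ι ≫ e₀
  let g : U.toScheme ⟶ Spec (CommRingCat.of (Node R' c)) := U.ι ≫ g₁
  have hfib : (⟨e ⁻¹' {x}, hxc.preimage e.continuous⟩ : Closeds U.toScheme) = ⟨g ⁻¹' {z}, hzc.preimage g.continuous⟩ := by
    refine Closeds.ext (Set.ext fun u => ?_)
    show e₀ u.1 = x ↔ g₁ u.1 = z
    constructor
    · intro h
      by_contra h'
      exact u.2 ⟨Or.inl h, fun e' => h' (congrArg g₁ (Set.mem_singleton_iff.1 e'))⟩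
    · intro h
      by_contra h'
      exact u.2 ⟨Or.inr h, fun e' => h' ((congrArg e₀ (Set.mem_singleton_iff.1 e')).trans hx₀)⟩
  let CN := Scheme.IdealSheafData.vanishingIdeal (X := Spec (CommRingCat.of (Node R' c))) ⟨{z}, hzc⟩
  let bN := BlowUpExist.ChartIdx.blowUpHom CN
  have hbN : BlowUp.IsBlowUp bN CN := BlowUpExist.ChartIdx.isBlowUp_blowUpHom
  haveI : IsProper bN := BlowUpExist.isProper (BlowUpReg6.isFiniteTypeIdeal CN) hbN
  have hC : (Scheme.IdealSheafData.vanishingIdeal (X := X) ⟨{x}, hxc⟩).comap e = CN.comap g := by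
    rw [comap_vanishingIdeal e, comap_vanishingIdeal g]
    exact congrArg _ hfib
  obtain ⟨i, hi⟩ := exists_iso_blowUp (S1680.result e _ b hb)
    (hC ▸ S1680.result g CN bN hbN : BlowUp.IsBlowUp (pullback.fst g bN) _)
  have hI : CN = Scheme.IdealSheafData.ofIdealTop
      (z.asIdeal.map (Scheme.ΓSpecIso (CommRingCat.of (Node R' c))).inv.hom) := vanishingIdeal_singleton z hzc
  haveI : Etale e := inferInstance
  haveI : Etale g := inferInstance
  let j := pullback.snd e b
  haveI : Etale j := MorphismProperty.pullback_snd _ _ inferInstance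
  haveI : Etale (pullback.snd g bN) := MorphismProperty.pullback_snd _ _ inferInstance
  haveI : LocallyOfFiniteType (πN c) := (good_πN c).2.1
  haveI : LocallyOfFiniteType (bN ≫ πN c) := inferInstance
  obtain ⟨hflat, hgood⟩ := good_blowUp hϖ' c₂ hc₂ z.asIdeal hPI bN (by rw [← hI]; exact hbN)
  have heq : j ≫ b ≫ f = (i.hom ≫ pullback.snd g bN) ≫ (bN ≫ πN c) ≫ gR := by
    have h1 : g ≫ πN c ≫ gR = e ≫ f := by simp only [g, e, Category.assoc, hcomm']
    simp only [j, Category.assoc]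
    rw [← pullback.condition_assoc, ← pullback.condition_assoc, ← Category.assoc i.hom, hi, h1]
  refine ⟨_, j, inferInstance, fun y hy => ?_, ?_, ?_⟩
  · obtain ⟨w, -, hw⟩ := Scheme.Pullback.exists_preimage_pullback (f := e) (g := b) x₁ y
      (by rw [hy]; exact hx₀)
    exact ⟨w, hw⟩
  · rw [heq]; infer_instance
  · rw [heq]
    intro _
    exact Nodal27.famGood_precomp_etale _ (Nodal27.famGood_postcomp_etale gR _ hgood) _

/-- Blowing up a nonregular point gives a proper nodal family. -/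
theorem isNodalFamily_blowUp {R : Type u} [CommRing R] [IsDomain R] [IsDiscreteValuationRing R] {X X' : Scheme.{u}}
    (f : X ⟶ Spec (CommRingCat.of R)) [IsProper f] (hf : Curv2.IsNodalFamily f) (x : X)
    (hx : f.base x = IsLocalRing.closedPoint R) (hxc : IsClosed ({x} : Set X))
    (hreg : ¬ IsRegularLocalRing (X.presheaf.stalk x))
    (b : X' ⟶ X) (hb : BlowUp.IsBlowUp b (Scheme.IdealSheafData.vanishingIdeal ⟨{x}, hxc⟩)) :
    IsProper (b ≫ f) ∧ Curv2.IsNodalFamily (b ≫ f) := by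
  haveI : IsLocallyNoetherian X := LocallyOfFiniteType.isLocallyNoetherian f
  haveI : IsProper b := BlowUpExist.isProper (BlowUpReg6.isFiniteTypeIdeal _) hb
  haveI : IsProper (b ≫ f) := inferInstance
  refine ⟨inferInstance, ?_⟩
  let C := Scheme.IdealSheafData.vanishingIdeal (X := X) ⟨{x}, hxc⟩
  let Off : X.Opens := C.support.compl
  haveI : IsIso (b ∣_ Off) := S1682.result C b hb
  let V := b ⁻¹ᵁ Off
  haveI : Flat f := hf.1
  haveI : LocallyOfFinitePresentation f := hf.2.1
  have hV : Flat (V.ι ≫ b ≫ f) ∧ ∀ _ : LocallyOfFiniteType (V.ι ≫ b ≫ f), Nodal27.FamGood (V.ι ≫ b ≫ f) := by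
    have e : V.ι ≫ b ≫ f = ((b ∣_ Off) ≫ Off.ι) ≫ f := by
      rw [morphismRestrict_ι, Category.assoc]
    rw [e]
    exact ⟨inferInstance, fun _ => Nodal27.famGood_precomp_etale f (Nodal27.famGood_of_isNodalFamily f hf) _⟩
  obtain ⟨W, j, hj, hjs, hjf, hjg⟩ := exists_nhd f hf x hx hxc hreg b hb
  have hcov : ∀ y : X', y ∈ Set.range V.ι.base ∨ y ∈ Set.range j.base := fun y => by
    by_cases h : b y = x
    · exact Or.inr (hjs y h)
    · refine Or.inl ⟨⟨y, ?_⟩, rfl⟩
      show b y ∉ (C.support : Set X)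
      rw [Scheme.IdealSheafData.coe_support_vanishingIdeal]
      exact h
  have hflat : Flat (b ≫ f) := by
    refine Flat.of_stalkMap _ fun y => ?_
    rcases hcov y with ⟨w, hw⟩ | ⟨w, hw⟩
    · haveI := hV.1
      rw [← hw]
      exact H12.flat_stalkMap_of_comp V.ι (b ≫ f) w (Flat.stalkMap _ _) (Flat.stalkMap _ _)
    · haveI := hjf
      rw [← hw]
      exact H12.flat_stalkMap_of_comp j (b ≫ f) w (Flat.stalkMap _ _) (Flat.stalkMap _ _)
  haveI : LocallyOfFinitePresentation (b ≫ f) := by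
    haveI : IsLocallyNoetherian (Spec (CommRingCat.of R)) := inferInstance
    haveI : LocallyOfFiniteType (b ≫ f) := inferInstance
    infer_instance
  have key : ∀ y : X', ∃ (U : Scheme.{u}) (q : U ⟶ X') (_ : Etale q), y ∈ Set.range q.base ∧
      ∀ _ : LocallyOfFiniteType (q ≫ b ≫ f), Nodal27.FamGood (q ≫ b ≫ f) := fun y => by
    rcases hcov y with h | h
    · exact ⟨_, V.ι, inferInstance, h, hV.2⟩
    · exact ⟨W, j, hj, h, hjg⟩
  choose Us qs hqs hys hgs using key
  haveI := hqs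
  exact Nodal27.isNodalFamily_of_famGood (b ≫ f)
    (Nodal27.famGood_of_etale_cover (b ≫ f) Us qs (fun y => ⟨y, hys y⟩) fun y => hgs y inferInstance)

end Groth.Agent.NodeBlow14
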