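import Groth.Agent.Lib.SplitNode14.Smooth
import Groth.Agent.Lib.Pur13.DVRFibre
import Mathlib.RingTheory.DiscreteValuationRing.Basic
import Mathlib.RingTheory.Flat.TorsionFree
import Mathlib.RingTheory.RegularLocalRing.Defs
import Mathlib.RingTheory.Ideal.Height

/-!
# The node models over a discrete valuation ring
-/

set_option autoImplicit false
set_option linter.style.haveILetI false
set_option backward.isDefEq.respectTransparency.types false

universe u

open MvPolynomial IsLocalRing
open Groth.Agent.NodalEtale14 (Node)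

noncomputable section

namespace Groth.Agent.NodeBlow14

/-- The structure map of the node model. -/
abbrev cst {R : Type u} [CommRing R] (c : R) : R →+* Node R c := (Ideal.Quotient.mk _).comp MvPolynomial.C

/-- The coordinates of the node model. -/
abbrev crd {R : Type u} [CommRing R] (c : R) (k : Fin 2) : Node R c := Ideal.Quotient.mk _ (MvPolynomial.X k)

theorem crd_mul {R : Type u} [CommRing R] (c : R) : crd c 0 * crd c 1 = cst c c := by
  show Ideal.Quotient.mk _ (X 0) * Ideal.Quotient.mk _ (X 1) = Ideal.Quotient.mk _ (C c)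
  rw [← map_mul]
  exact Ideal.Quotient.eq.2 (Ideal.mem_span_singleton_self _)

theorem crd_mul_other {R : Type u} [CommRing R] (c : R) {j k : Fin 2} (h : j ≠ k) : crd c k * crd c j = cst c c := by
  have e : ∀ a b : Fin 2, b ≠ a → (a = 0 ∧ b = 1) ∨ (a = 1 ∧ b = 0) := by decide
  rcases e k j h with ⟨rfl, rfl⟩ | ⟨rfl, rfl⟩
  · exact crd_mul c
  · rw [mul_comm]; exact crd_mul c

theorem node_ringHom_ext {R : Type u} [CommRing R] {c : R} {B : Type u} [CommRing B] {f g : Node R c →+* B}
    (h1 : ∀ r, f (cst c r) = g (cst c r)) (h2 : ∀ k, f (crd c k) = g (crd c k)) : f = g :=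
  Ideal.Quotient.ringHom_ext (MvPolynomial.ringHom_ext h1 h2)

/-- Homomorphisms out of the node model. -/
theorem exists_hom {R : Type u} [CommRing R] (c : R) {B : Type u} [CommRing B] (j : R →+* B) (v : Fin 2 → B)
    (h : v 0 * v 1 = j c) :
    ∃ f : Node R c →+* B, (∀ r, f (cst c r) = j r) ∧ ∀ k, f (crd c k) = v k := by
  refine ⟨Ideal.Quotient.lift _ (MvPolynomial.eval₂Hom j v) fun x hx => ?_, fun r => ?_, fun k => ?_⟩
  · obtain ⟨b, rfl⟩ := Ideal.mem_span_singleton'.1 hx
    simp [h]
  · exact MvPolynomial.eval₂Hom_C j v r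
  · exact MvPolynomial.eval₂Hom_X' j v k

theorem isRegularLocalRing_of_localization {N L : Type u} [CommRing N] [CommRing L] [Algebra N L] (M : Submonoid N)
    [IsLocalization M L] (Q : Ideal L) [Q.IsPrime] (P : Ideal N) [P.IsPrime] (hQ : Q.comap (algebraMap N L) = P)
    (h : IsRegularLocalRing (Localization.AtPrime Q)) : IsRegularLocalRing (Localization.AtPrime P) := by
  subst hQ
  haveI := IsLocalization.isLocalization_isLocalization_atPrime_isLocalization M (Localization.AtPrime Q) Q
  exact IsRegularLocalRing.of_ringEquiv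
    (IsLocalization.algEquiv (Q.comap (algebraMap N L)).primeCompl (Localization.AtPrime Q)
      (Localization.AtPrime (Q.comap (algebraMap N L)))).toRingEquiv

theorem isRegularLocalRing_of_two {N : Type u} [CommRing N] [IsNoetherianRing N] (P : Ideal N) [P.IsPrime] {a b : N}
    (hP : Ideal.span {a, b} = P) (hd : (2 : WithBot ℕ∞) ≤ ringKrullDim (Localization.AtPrime P)) :
    IsRegularLocalRing (Localization.AtPrime P) := by
  refine IsRegularLocalRing.of_spanFinrank_maximalIdeal_le _ (le_trans ?_ hd)
  subst hP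
  rw [← Localization.AtPrime.map_eq_maximalIdeal, Ideal.map_span]
  have := Submodule.spanFinrank_span_le_ncard_of_finite (R := Localization.AtPrime (Ideal.span {a, b}))
    (s := (algebraMap N (Localization.AtPrime (Ideal.span {a, b}))) '' {a, b}) (Set.Finite.image _ (by simp))
  refine le_trans (Nat.cast_le.2 this) ?_
  refine le_trans (Nat.cast_le.2 ((Set.ncard_image_le (by simp)).trans (Set.ncard_insert_le _ _))) ?_
  simp

variable {R : Type u} [CommRing R] [IsDomain R] (c : R)

theorem ne_zero_of_relation : (X 0 * X 1 - C c : MvPolynomial (Fin 2) R) ≠ 0 := fun e => by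
  have h := congrArg (coeff (Finsupp.single 0 1 + Finsupp.single 1 1)) e
  have h0 : (0 : Fin 2 →₀ ℕ) ≠ Finsupp.single 0 1 + Finsupp.single 1 1 := fun h => by
    have := DFunLike.congr_fun h 0; simp at this
  rw [coeff_sub, coeff_C, if_neg h0, sub_zero, coeff_zero,
    show (X 0 * X 1 : MvPolynomial (Fin 2) R) = monomial (Finsupp.single 0 1 + Finsupp.single 1 1) 1 by
      rw [X, X, monomial_mul, one_mul], coeff_monomial, if_pos rfl] at h
  exact one_ne_zero h

/-- A uniformizer is regular on the node model. -/
theorem cst_mem_nonZeroDivisors {ϖ : R} (hϖ : Prime ϖ) : cst c ϖ ∈ nonZeroDivisors (Node R c) := by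
  rw [mem_nonZeroDivisors_iff_right]
  intro z hz
  obtain ⟨p, rfl⟩ := Ideal.Quotient.mk_surjective z
  let F : MvPolynomial (Fin 2) R := X 0 * X 1 - C c
  have hz' : p * C ϖ ∈ Ideal.span {F} := by
    rw [← Ideal.Quotient.eq_zero_iff_mem, map_mul]; exact hz
  obtain ⟨q, hq⟩ := Ideal.mem_span_singleton'.1 hz'
  haveI : (Ideal.span {ϖ}).IsPrime := (Ideal.span_singleton_prime hϖ.ne_zero).2 hϖ
  let π := MvPolynomial.map (σ := Fin 2) (Ideal.Quotient.mk (Ideal.span {ϖ}))
  have h0 : π q * π F = 0 := by
    rw [← map_mul, hq, map_mul]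
    simp [π]
  have hF : π F ≠ 0 := by
    have : π F = X 0 * X 1 - C (Ideal.Quotient.mk _ c) := by simp [π, F]
    rw [this]
    exact ne_zero_of_relation _
  have hq0 : C ϖ ∣ q := by
    rw [MvPolynomial.C_dvd_iff_dvd_coeff]
    intro d
    rw [← Ideal.mem_span_singleton, ← Ideal.Quotient.eq_zero_iff_mem, ← MvPolynomial.coeff_map]
    rw [(mul_eq_zero.1 h0).resolve_right hF, coeff_zero]
  obtain ⟨q', rfl⟩ := hq0
  refine Ideal.Quotient.eq_zero_iff_mem.2 (Ideal.mem_span_singleton'.2 ⟨q', ?_⟩)
  refine mul_left_cancel₀ (MvPolynomial.C_ne_zero.2 hϖ.ne_zero) ?_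
  rw [← mul_assoc, hq, mul_comm]

/-- The first coordinate is regular on the node model with nonzero parameter. -/
theorem crd_mem_nonZeroDivisors (hc : c ≠ 0) : crd c 0 ∈ nonZeroDivisors (Node R c) := by
  rw [mem_nonZeroDivisors_iff_right]
  intro z hz
  obtain ⟨p, rfl⟩ := Ideal.Quotient.mk_surjective z
  let F : MvPolynomial (Fin 2) R := X 0 * X 1 - C c
  have hz' : p * X 0 ∈ Ideal.span {F} := by
    rw [← Ideal.Quotient.eq_zero_iff_mem, map_mul]; exact hz
  obtain ⟨q, hq⟩ := Ideal.mem_span_singleton'.1 hz'
  let π : MvPolynomial (Fin 2) R →ₐ[R] MvPolynomial (Fin 2) R := MvPolynomial.aeval ![0, X 1]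
  have h0 : π q * (- C c) = 0 := by
    have := congrArg π hq
    simpa [π, F] using this
  have hπq : π q = 0 := (mul_eq_zero.1 h0).resolve_right (neg_ne_zero.2 (MvPolynomial.C_ne_zero.2 hc))
  have hsub : ∀ s : MvPolynomial (Fin 2) R, X 0 ∣ s - π s := fun s => by
    induction s using MvPolynomial.induction_on with
    | C r => simp [π]
    | add a b ha hb => rw [map_add, show a + b - (π a + π b) = (a - π a) + (b - π b) by ring]; exact dvd_add ha hb
    | mul_X a k ha =>
      rw [map_mul, show a * X k - π a * π (X k) = (a - π a) * X k + π a * (X k - π (X k)) by ring]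
      refine dvd_add (ha.mul_right _) (Dvd.dvd.mul_left ?_ _)
      fin_cases k <;> simp [π]
  obtain ⟨q', hq'⟩ : X 0 ∣ q := by simpa [hπq] using hsub q
  subst hq'
  refine Ideal.Quotient.eq_zero_iff_mem.2 (Ideal.mem_span_singleton'.2 ⟨q', ?_⟩)
  refine mul_left_cancel₀ (X_ne_zero (R := R) (0 : Fin 2)) ?_
  rw [← mul_assoc, hq, mul_comm]

section DVR

variable [IsDiscreteValuationRing R]

/-- The node model over a discrete valuation ring is flat. -/
theorem flat_node : Module.Flat R (Node R c) := by
  obtain ⟨ϖ, hϖ⟩ := IsDiscreteValuationRing.exists_irreducible R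
  rw [Module.Flat.flat_iff_torsion_eq_bot_of_isBezout, eq_bot_iff]
  rintro m ⟨⟨r, hr⟩, h⟩
  change r • m = 0 at h
  obtain ⟨n, hn⟩ := IsDiscreteValuationRing.associated_pow_irreducible (nonZeroDivisors.ne_zero hr) hϖ
  obtain ⟨w, rfl⟩ := hn.symm
  replace h : cst c (ϖ ^ n * (w : R)) * m = 0 := Eq.trans (Algebra.smul_def (ϖ ^ n * (w : R)) m).symm h
  rw [map_mul, map_pow, mul_comm _ (cst c (w : R)), mul_assoc, (w.isUnit.map (cst c)).mul_right_eq_zero, mul_comm] at h
  rw [Submodule.mem_bot]
  exact mem_nonZeroDivisors_iff_right.1 (pow_mem (cst_mem_nonZeroDivisors c hϖ.prime) n) m h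

/-- The models with a unit or a uniformizer as parameter, or away from the singular section, are regular. -/
theorem isRegularLocalRing_node (P : Ideal (Node R c)) [P.IsPrime] (hP : P.comap (cst c) = maximalIdeal R)
    (h : (∃ k, crd c k ∉ P) ∨ Irreducible c) : IsRegularLocalRing (Localization.AtPrime P) := by
  by_cases hk : ∃ k, crd c k ∉ P
  · obtain ⟨k, hk⟩ := hk
    let L := Localization.Away (crd c k)
    haveI : Algebra.Smooth R L := SplitNode14.smooth_node_away R c k
    have hd : Disjoint ((Submonoid.powers (crd c k) : Submonoid (Node R c)) : Set (Node R c)) (P : Set (Node R c)) := by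
      rw [Set.disjoint_left]
      rintro x ⟨n, rfl⟩ hx
      exact hk (Ideal.IsPrime.mem_of_pow_mem inferInstance n hx)
    haveI : (P.map (algebraMap (Node R c) L)).IsPrime :=
      IsLocalization.isPrime_of_isPrime_disjoint (Submonoid.powers (crd c k)) L P inferInstance hd
    have hcm : (P.map (algebraMap (Node R c) L)).comap (algebraMap (Node R c) L) = P :=
      IsLocalization.under_map_of_isPrime_disjoint (Submonoid.powers (crd c k)) L inferInstance hd
    haveI hreg := Pur13.isRegularLocalRing_of_smooth (algebraMap R L) (RingHom.smooth_algebraMap.2 inferInstance)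
      (P.map (algebraMap (Node R c) L))
    exact isRegularLocalRing_of_localization (Submonoid.powers (crd c k)) (P.map (algebraMap (Node R c) L)) P hcm hreg
  · have hirr : Irreducible c := h.resolve_left hk
    push Not at hk
    -- a chain of length two below `P`
    have hrc : residue R c = 0 := by
      rw [IsLocalRing.residue_eq_zero_iff, hirr.maximalIdeal_eq]; exact Ideal.mem_span_singleton_self c
    obtain ⟨π₁, hπc, hπk⟩ := exists_hom c (Polynomial.C.comp (residue R)) ![0, Polynomial.X] (by simp [hrc])
    haveI : (RingHom.ker π₁).IsPrime := RingHom.ker_isPrime π₁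
    have hPeq : ∀ z : Node R c, ∃ r : R, z - cst c r ∈ Ideal.span {crd c 0, crd c 1} := fun z => by
      obtain ⟨p, rfl⟩ := Ideal.Quotient.mk_surjective z
      induction p using MvPolynomial.induction_on with
      | C r => exact ⟨r, by simp⟩
      | add a b ha hb =>
        obtain ⟨r, hr⟩ := ha
        obtain ⟨s, hs⟩ := hb
        refine ⟨r + s, ?_⟩
        rw [map_add, map_add (cst c)]
        convert add_mem hr hs using 1
        ring
      | mul_X a k _ =>
        refine ⟨0, ?_⟩
        rw [map_zero (cst c), sub_zero, map_mul]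
        refine Ideal.mul_mem_left _ _ (Ideal.subset_span ?_)
        fin_cases k
        · exact Or.inl rfl
        · exact Or.inr rfl
    have hc0 : cst c c ∈ Ideal.span {crd c 0, crd c 1} := by
      rw [← crd_mul c]
      exact Ideal.mul_mem_right _ _ (Ideal.subset_span (Or.inl rfl))
    have hspan : Ideal.span {crd c 0, crd c 1} = P := by
      refine le_antisymm (Ideal.span_le.2 ?_) fun z hz => ?_
      · rintro _ (rfl | rfl)
        · exact hk 0
        · exact hk 1
      · obtain ⟨r, hr⟩ := hPeq z
        have hr' : r ∈ maximalIdeal R := by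
          rw [← hP, Ideal.mem_comap]
          have : z - cst c r ∈ P := (Ideal.span_le.2 (by rintro _ (rfl | rfl); exacts [hk 0, hk 1])) hr
          simpa using sub_mem hz this
        rw [hirr.maximalIdeal_eq, Ideal.mem_span_singleton'] at hr'
        obtain ⟨s, rfl⟩ := hr'
        have := add_mem hr (Ideal.mul_mem_left _ (cst c s) hc0)
        rwa [← map_mul, sub_add_cancel] at this
    have hlt : RingHom.ker π₁ < P := by
      refine lt_of_le_of_ne ?_ fun e => ?_
      · intro z hz
        rw [← hspan]
        obtain ⟨r, hr⟩ := hPeq z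
        have h0 : ∀ w ∈ Ideal.span {crd c 0, crd c 1}, Polynomial.eval 0 (π₁ w) = 0 := fun w hw => by
          obtain ⟨a, b, rfl⟩ := Ideal.mem_span_pair.1 hw
          simp [hπk]
        have := h0 _ hr
        rw [map_sub, (RingHom.mem_ker).1 hz, hπc] at this
        simp only [zero_sub, RingHom.comp_apply, Polynomial.eval_neg, Polynomial.eval_C, neg_eq_zero,
          IsLocalRing.residue_eq_zero_iff, hirr.maximalIdeal_eq, Ideal.mem_span_singleton'] at this
        obtain ⟨s, rfl⟩ := this
        have := add_mem hr (Ideal.mul_mem_left _ (cst c s) hc0)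
        rwa [← map_mul, sub_add_cancel] at this
      · have h1 : crd c 1 ∈ RingHom.ker π₁ := e ▸ hk 1
        rw [RingHom.mem_ker, hπk] at h1
        exact Polynomial.X_ne_zero h1
    obtain ⟨P₀, hP₀, hP₀le⟩ := Ideal.exists_minimalPrimes_le (bot_le : ⊥ ≤ RingHom.ker π₁)
    haveI : P₀.IsPrime := hP₀.1.1
    have hlt₀ : P₀ < RingHom.ker π₁ := by
      refine lt_of_le_of_ne hP₀le fun e => ?_
      have hcP : cst c c ∈ P₀ := by
        rw [e, RingHom.mem_ker, hπc]
        simp [hrc]
      exact Set.disjoint_left.1 (Ideal.disjoint_nonZeroDivisors_of_mem_minimalPrimes hP₀) hcP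
        (cst_mem_nonZeroDivisors c hirr.prime)
    have hdim : (2 : WithBot ℕ∞) ≤ ringKrullDim (Localization.AtPrime P) := by
      rw [IsLocalization.AtPrime.ringKrullDim_eq_height P (Localization.AtPrime P)]
      have h1 := Ideal.height_add_one_le_of_lt_of_isPrime hlt₀
      have h2 := Ideal.height_add_one_le_of_lt_of_isPrime hlt
      have : (2 : ℕ∞) ≤ P.height := by
        refine le_trans ?_ h2
        refine le_trans ?_ (add_le_add h1 le_rfl)
        rw [add_assoc]
        exact le_add_self
      exact WithBot.coe_le_coe.2 this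
    haveI : IsNoetherianRing (Node R c) := inferInstance
    exact isRegularLocalRing_of_two P hspan hdim

end DVR

end Groth.Agent.NodeBlow14
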