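import Groth.Agent.Lib.NodeBlow14.Chart
import Groth.Agent.S1695
import Groth.Agent.Lib.Nodal27.NodeModel
import Groth.Agent.Lib.H12.FlatComp

/-!
# The blow-up of the node model is a flat family of nodal curves
-/

set_option autoImplicit false
set_option linter.style.haveILetI false
set_option backward.isDefEq.respectTransparency.types false

universe u

open CategoryTheory CategoryTheory.Limits AlgebraicGeometry
open Groth.Agent.NodalEtale14 (Node)

noncomputable section

namespace Groth.Agent.NodeBlow14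

/-- The projection of the node model. -/
abbrev πN {R : Type u} [CommRing R] (c : R) : Spec (CommRingCat.of (Node R c)) ⟶ Spec (CommRingCat.of R) :=
  Spec.map (CommRingCat.ofHom (cst c))

theorem good_πN {R : Type u} [CommRing R] [IsDomain R] [IsDiscreteValuationRing R] (c : R) :
    ∃ (_ : Flat (πN c)) (_ : LocallyOfFiniteType (πN c)), Nodal27.FamGood (πN c) := by
  haveI := Nodal27.locallyOfFinitePresentation_nodeToBase R c
  haveI : Flat (πN c) := (HasRingHomProperty.Spec_iff (P := @Flat)).2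
    (RingHom.flat_algebraMap_iff.2 (flat_node c))
  exact ⟨inferInstance, inferInstanceAs (LocallyOfFiniteType (StrictSS.nodeToBase R c)),
    Nodal27.famGood_nodeToBase R c⟩

/-- The blow-up of `uv = ϖ² h₂` at the origin is a flat family of nodal curves. -/
theorem good_blowUp {R : Type u} [CommRing R] [IsDomain R] [IsDiscreteValuationRing R] {ϖ : R} (hϖ : Irreducible ϖ)
    {h : R} (h₂ : R) (hh : h = ϖ ^ 2 * h₂) (I : Ideal (Node R h))
    (hI : I = Ideal.span {cst h ϖ, crd h 0, crd h 1}) {B : Scheme.{u}} (b : B ⟶ Spec (CommRingCat.of (Node R h)))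
    (hb : BlowUp.IsBlowUp b (Scheme.IdealSheafData.ofIdealTop (I.map (Scheme.ΓSpecIso (CommRingCat.of (Node R h))).inv.hom)))
    [LocallyOfFiniteType (b ≫ πN h)] : Flat (b ≫ πN h) ∧ Nodal27.FamGood (b ≫ πN h) := by
  have key : ∀ y : B, ∃ (U : Scheme.{u}) (j : U ⟶ B) (_ : Etale j), y ∈ Set.range j.base ∧ Flat (j ≫ b ≫ πN h) ∧
      ∀ _ : LocallyOfFiniteType (j ≫ b ≫ πN h), Nodal27.FamGood (j ≫ b ≫ πN h) := by
    intro y
    obtain ⟨a, ha, V, e, hyV, he⟩ := S1695.result (Node R h) I b hb y
    obtain ⟨q, hq⟩ : ∃ q, e.hom ⟨y, hyV⟩ = q := ⟨_, rfl⟩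
    obtain ⟨t, ht, c, ψ, hψ, hψc⟩ := exists_nodeChart hϖ h₂ hh I hI ha q.asIdeal
    let D := BlowUp.affineAlgebra (Node R h) I a
    let st : Spec (CommRingCat.of (Localization.Away t)) ⟶ Spec (CommRingCat.of D) :=
      Spec.map (CommRingCat.ofHom (algebraMap D (Localization.Away t)))
    haveI : Etale st := (HasRingHomProperty.Spec_iff (P := @Etale)).2
      (RingHom.etale_algebraMap.2 (Algebra.Etale.of_isLocalizationAway t))
    haveI : Etale (Spec.map (CommRingCat.ofHom ψ)) := (HasRingHomProperty.Spec_iff (P := @Etale)).2 hψ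
    refine ⟨_, st ≫ e.inv ≫ V.ι, inferInstance, ?_, ?_⟩
    · obtain ⟨w, hw⟩ : q ∈ Set.range (PrimeSpectrum.comap (algebraMap D (Localization.Away t))) := by
        rw [PrimeSpectrum.localization_away_comap_range (Localization.Away t) t]
        exact ht
      refine ⟨w, ?_⟩
      rw [Scheme.Hom.comp_apply, Scheme.Hom.comp_apply, show st w = q from hw, ← hq, ← Scheme.Hom.comp_apply e.hom,
        e.hom_inv_id]
      rfl
    · have e1 : (st ≫ e.inv ≫ V.ι) ≫ b ≫ πN h = Spec.map (CommRingCat.ofHom ψ) ≫ πN c := by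
        simp only [Category.assoc]
        rw [← Category.assoc V.ι, ← he, ← Category.assoc e.inv, Iso.inv_hom_id_assoc]
        rw [← Spec.map_comp, ← Spec.map_comp, ← Spec.map_comp]
        exact congrArg Spec.map (CommRingCat.hom_ext (RingHom.ext fun r => (hψc r).symm))
      obtain ⟨hflat, hft, hgood⟩ := good_πN c
      rw [e1]
      exact ⟨inferInstance, fun _ => Nodal27.famGood_precomp_etale _ hgood _⟩
  choose U j hj hy hflat hgood using key
  haveI := hj
  refine ⟨?_, Nodal27.famGood_of_etale_cover _ U j (fun y => ⟨y, hy y⟩) fun y => hgood y inferInstance⟩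
  refine Flat.of_stalkMap _ fun y => ?_
  obtain ⟨w, hw⟩ := hy y
  haveI := hflat y
  rw [← hw]
  exact H12.flat_stalkMap_of_comp (j y) (b ≫ πN h) w (Flat.stalkMap _ _) (Flat.stalkMap _ _)

end Groth.Agent.NodeBlow14
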